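import Groth.Agent.UOpenFP.Criterion
import Groth.Agent.MorLib.UltraExistence
import Groth.Agent.MorLib.Descend
import Groth.Agent.MorLib.ProperFT

/-!
# Universal openness of finitely presented morphisms descends along limits
-/

universe u

set_option autoImplicit false
set_option linter.style.haveILetI false
set_option backward.isDefEq.respectTransparency false
set_option backward.isDefEq.respectTransparency.types false

open CategoryTheory CategoryTheory.Limits AlgebraicGeometry IsLocalRing TensorProduct Filter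
open Groth.Agent.MorLib Groth.Agent.MorLib.Ultra

namespace Groth.Agent.UOpenFP

section ultra

variable {J : Type u} (U : Ultrafilter J) (K : J → Type u) [∀ t, Field (K t)] (V : ∀ t, ValuationSubring (K t))

/-- The ultraproduct valuation subring. -/
noncomputable abbrev ultraV : ValuationSubring (Field' U K) := subring U (K := K) fun t => (V t : Type u)

/-- Families of integral elements map onto the ultraproduct. -/
noncomputable def toUltra : (∀ t, V t) →+* ultraV U K V :=
  ((mk U K).comp (incl (K := K) fun t => (V t : Type u))).rangeRestrict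

theorem toUltra_surjective : Function.Surjective (toUltra U K V) :=
  RingHom.rangeRestrict_surjective _

theorem toUltra_eq_iff {a b : ∀ t, V t} :
    toUltra U K V a = toUltra U K V b ↔ ∀ᶠ t in (U : Filter J), a t = b t := by
  refine Subtype.ext_iff.trans ((mk_eq_mk U K).trans ?_)
  exact ⟨fun h => h.mono fun t ht => Subtype.ext ht, fun h => h.mono fun t ht => congrArg Subtype.val ht⟩

theorem isUnit_toUltra {a : ∀ t, V t} : IsUnit (toUltra U K V a) ↔ ∀ᶠ t in (U : Filter J), IsUnit (a t) := by
  constructor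
  · intro h
    obtain ⟨b, hb⟩ := h.exists_right_inv
    obtain ⟨b, rfl⟩ := toUltra_surjective U K V b
    rw [← map_mul, ← map_one (toUltra U K V), toUltra_eq_iff] at hb
    exact hb.mono fun t ht => IsUnit.of_mul_eq_one (b t) ht
  · intro h
    classical
    let b : ∀ t, V t := fun t => if ht : IsUnit (a t) then ↑ht.unit⁻¹ else 0
    refine IsUnit.of_mul_eq_one (toUltra U K V b) ?_
    rw [← map_mul, ← map_one (toUltra U K V), toUltra_eq_iff]
    exact h.mono fun t ht => by simp [b, ht]

theorem residue_toUltra_eq_iff {a b : ∀ t, V t} :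
    residue (ultraV U K V) (toUltra U K V a) = residue (ultraV U K V) (toUltra U K V b) ↔
      ∀ᶠ t in (U : Filter J), residue (V t) (a t) = residue (V t) (b t) := by
  have h : ∀ (R : Type u) [CommRing R] [IsLocalRing R] (x y : R),
      residue R x = residue R y ↔ ¬ IsUnit (x - y) := fun R _ _ x y => by
    rw [← sub_eq_zero, ← map_sub, residue_eq_zero_iff, mem_maximalIdeal, mem_nonunits_iff]
  rw [h, ← map_sub, isUnit_toUltra, ← Ultrafilter.eventually_not]
  exact ⟨fun h' => h'.mono fun t ht => (h _ _ _).2 ht, fun h' => h'.mono fun t ht => (h _ _ _).1 ht⟩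

/-- An ultraproduct of algebraically closed fields is algebraically closed. -/
theorem isAlgClosed_field' [∀ t, IsAlgClosed (K t)] : IsAlgClosed (Field' U K) := by
  refine IsAlgClosed.of_exists_root _ fun p hp hirr => ?_
  obtain ⟨q, hq, hdeg, hm⟩ := Polynomial.lifts_and_degree_eq_and_monic
    ((Polynomial.mem_lifts p).2 (Polynomial.map_surjective (mk U K) Ideal.Quotient.mk_surjective p)) hp
  choose r hr using fun t => IsAlgClosed.exists_root (q.map (Pi.evalRingHom K t)) (by
    rw [hm.degree_map, hdeg]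
    exact ne_of_gt (Polynomial.degree_pos_of_irreducible hirr))
  refine ⟨mk U K r, ?_⟩
  rw [← hq, Polynomial.eval_map, Polynomial.eval₂_at_apply]
  have : q.eval r = 0 := funext fun t => by
    have := hr t
    rw [Polynomial.IsRoot, Polynomial.eval_map] at this
    rw [show (q.eval r) t = Pi.evalRingHom K t (q.eval r) from rfl, ← Polynomial.eval₂_at_apply]
    exact this
  rw [this, map_zero]

end ultra

variable {I : Type u} [SmallCategory I] [IsCofiltered I] {D : I ⥤ Scheme.{u}}

/-- Lifts at the limit give lifts at a stage. -/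
theorem exists_lifts_stage {c : Cone D} (hc : IsLimit c) [∀ j, IsAffine (D.obj j)] {i : I}
    (B : Type u) [CommRing B] [Algebra Γ(D.obj i, ⊤) B] [Algebra.FinitePresentation Γ(D.obj i, ⊤) B]
    (H : ∀ (K : Type u) [Field K] [IsAlgClosed K] (V : ValuationSubring K) (b : Spec (.of V) ⟶ c.pt)
      (χ : B →+* ResidueField V), χ.comp (algebraMap Γ(D.obj i, ⊤) B) = (residue V).comp (pre (b ≫ c.π.app i)) →
      ∃ l : B →+* V, l.comp (algebraMap Γ(D.obj i, ⊤) B) = pre (b ≫ c.π.app i) ∧ (residue V).comp l = χ) :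
    ∃ (j : I) (φ : j ⟶ i), ∀ (K : Type u) [Field K] [IsAlgClosed K] (V : ValuationSubring K)
      (β : Γ(D.obj j, ⊤) →+* V) (χ : B →+* ResidueField V),
      χ.comp (algebraMap Γ(D.obj i, ⊤) B) = (residue V).comp (β.comp (D.map φ).appTop.hom) →
      ∃ l : B →+* V, l.comp (algebraMap Γ(D.obj i, ⊤) B) = β.comp (D.map φ).appTop.hom ∧ (residue V).comp l = χ := by
  classical
  by_contra hcon
  simp only [not_exists, not_forall] at hcon
  choose jt τ hτ using exists_cone (I := I) i
  choose K iK iAC V β χ hsq hno using fun t => hcon (jt t) (τ t (mem_objs_self i t))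
  letI := iK; letI := iAC
  let U : Ultrafilter (Index I) := Ultrafilter.of atTop
  have hU : (U : Filter (Index I)) ≤ atTop := Ultrafilter.of_le _
  have hO : ∀ k : I, ∀ᶠ t in (U : Filter (Index I)), k ∈ objs i t := fun k =>
    hU ((eventually_ge_atTop (({k} : Finset I), (∅ : Finset (Σ X Y : I, X ⟶ Y)))).mono fun t ht => by
      have : k ∈ t.1 := ht.1 (Finset.mem_singleton_self k)
      simp [objs, this])
  have hM : ∀ {k k' : I} (m : k ⟶ k'), ∀ᶠ t in (U : Filter (Index I)),
      (⟨k, k', m⟩ : Σ X Y : I, X ⟶ Y) ∈ t.2 := fun {k k'} m =>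
    hU ((eventually_ge_atTop ((∅ : Finset I), ({⟨k, k', m⟩} : Finset (Σ X Y : I, X ⟶ Y)))).mono
      fun t ht => ht.2 (Finset.mem_singleton_self _))
  haveI := isAlgClosed_field' U K
  let W := ultraV U K V
  let P := toUltra U K V
  let ψ : ∀ k, Γ(D.obj k, ⊤) →+* Field' U K := fun k =>
    germ (hO k) fun t hk => (V t).subtype.comp ((β t).comp (D.map (τ t hk)).appTop.hom)
  let ψW : ∀ k, Γ(D.obj k, ⊤) →+* W := fun k => (ψ k).codRestrict W.toSubring fun x =>
    germ_mem (fun t => (V t : Type u)) (hO k) _ x fun t hk => ⟨(β t) ((D.map (τ t hk)).appTop x), rfl⟩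
  let cW : Cone D :=
    { pt := Spec (.of W)
      π :=
      { app := fun k => toPt (ψW k)
        naturality := fun k k' m => by
          show 𝟙 _ ≫ toPt (ψW k') = toPt (ψW k) ≫ D.map m
          rw [Category.id_comp]
          refine pre_injective ?_
          rw [pre_comp, pre_toPt, pre_toPt]
          have e : (ψ k).comp (D.map m).appTop.hom = ψ k' :=
            germ_comp_eq_germ (hO k) (hO k') _ _ _ ((hM m).mono fun t ht hp hq => by
              rw [← hτ t m ht hp hq, D.map_comp, Scheme.Hom.comp_appTop]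
              rfl)
          refine RingHom.ext fun x => Subtype.ext ?_
          exact (RingHom.congr_fun e x).symm } }
  let b : Spec (.of W) ⟶ c.pt := hc.lift cW
  let βA : ∀ t, Γ(D.obj i, ⊤) →+* V t := fun t => (β t).comp (D.map (τ t (mem_objs_self i t))).appTop.hom
  have hb : pre (b ≫ c.π.app i) = P.comp (Pi.ringHom βA) := by
    rw [hc.fac cW i, pre_toPt]
    refine RingHom.ext fun x => Subtype.ext ?_
    exact germ_eq_mk (hO i) _ x _ (Eventually.of_forall fun t ht => rfl)
  choose rep hrep using fun (t : Index I) (x : B) => residue_surjective (χ t x)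
  let χW : B →+* ResidueField W :=
    { toFun := fun x => residue W (P fun t => rep t x)
      map_one' := by
        rw [← map_one (residue W), ← map_one P, residue_toUltra_eq_iff]
        exact Eventually.of_forall fun t => by rw [hrep, map_one, Pi.one_apply, map_one]
      map_mul' := fun x y => by
        rw [← map_mul, ← map_mul, residue_toUltra_eq_iff]
        exact Eventually.of_forall fun t => by rw [hrep, map_mul, Pi.mul_apply, map_mul, hrep, hrep]
      map_zero' := by
        rw [← map_zero (residue W), ← map_zero P, residue_toUltra_eq_iff]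
        exact Eventually.of_forall fun t => by rw [hrep, map_zero, Pi.zero_apply, map_zero]
      map_add' := fun x y => by
        rw [← map_add, ← map_add, residue_toUltra_eq_iff]
        exact Eventually.of_forall fun t => by rw [hrep, map_add, Pi.add_apply, map_add, hrep, hrep] }
  obtain ⟨l, hl, hl'⟩ := H (Field' U K) W b χW (by
    rw [hb]
    refine RingHom.ext fun x => ?_
    show residue W (P fun t => rep t (algebraMap Γ(D.obj i, ⊤) B x)) = residue W (P fun t => βA t x)
    rw [residue_toUltra_eq_iff]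
    exact Eventually.of_forall fun t => by rw [hrep]; exact RingHom.congr_fun (hsq t) x)
  obtain ⟨n, f, hf, hker⟩ := (inferInstance : Algebra.FinitePresentation Γ(D.obj i, ⊤) B).out
  choose u hu using fun a : Fin n => toUltra_surjective U K V (l (f (MvPolynomial.X a)))
  let E : MvPolynomial (Fin n) Γ(D.obj i, ⊤) →+* ∀ t, V t :=
    MvPolynomial.eval₂Hom (Pi.ringHom βA) u
  have hE : P.comp E = l.comp f.toRingHom := by
    refine MvPolynomial.ringHom_ext (fun a => ?_) fun a => ?_
    · show P (E (MvPolynomial.C a)) = l (f (MvPolynomial.C a))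
      rw [show E (MvPolynomial.C a) = Pi.ringHom βA a from MvPolynomial.eval₂Hom_C _ _ a,
        show f (MvPolynomial.C a) = algebraMap _ B a from f.commutes a]
      exact ((RingHom.congr_fun hl a).trans (RingHom.congr_fun hb a)).symm
    · show P (E (MvPolynomial.X a)) = l (f (MvPolynomial.X a))
      rw [show E (MvPolynomial.X a) = u a from MvPolynomial.eval₂Hom_X' _ _ a]
      exact hu a
  obtain ⟨G, hG⟩ := hker
  have h1 : ∀ g ∈ G, ∀ᶠ t in (U : Filter (Index I)), E g t = 0 := fun g hg => by
    have : P (E g) = P 0 := by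
      rw [map_zero, show P (E g) = l (f g) from RingHom.congr_fun hE g]
      have : f g = 0 := (show g ∈ RingHom.ker f.toRingHom from hG ▸ Submodule.subset_span hg)
      rw [this, map_zero]
    exact (toUltra_eq_iff U K V).1 this
  have h2 : ∀ a : Fin n, ∀ᶠ t in (U : Filter (Index I)), residue (V t) (u a t) = χ t (f (MvPolynomial.X a)) := fun a => by
    have : residue W (P (u a)) = residue W (P fun t => rep t (f (MvPolynomial.X a))) := by
      rw [hu a]
      exact RingHom.congr_fun hl' _
    exact ((residue_toUltra_eq_iff U K V).1 this).mono fun t ht => ht.trans (hrep t _)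
  obtain ⟨t, htG, htX⟩ := (((eventually_all_finset G).2 h1).and (eventually_all.2 h2)).exists
  let Et : MvPolynomial (Fin n) Γ(D.obj i, ⊤) →+* V t := (Pi.evalRingHom (fun t => (V t : Type u)) t).comp E
  have hEt : RingHom.ker f.toRingHom ≤ RingHom.ker Et := by
    rw [← hG]
    exact Ideal.span_le.2 fun g hg => htG g hg
  let lt : B →+* V t := RingHom.liftOfSurjective f.toRingHom hf ⟨Et, hEt⟩
  have hlt : ∀ g, lt (f g) = Et g := fun g => RingHom.liftOfRightInverse_comp_apply f.toRingHom _ _ ⟨Et, hEt⟩ g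
  refine hno t lt ⟨RingHom.ext fun a => ?_, ?_⟩
  · show lt (algebraMap _ B a) = _
    rw [← f.commutes, hlt]
    show E (MvPolynomial.C a) t = _
    rw [show E (MvPolynomial.C a) = Pi.ringHom βA a from MvPolynomial.eval₂Hom_C _ _ a]
    rfl
  · refine RingHom.ext fun x => ?_
    obtain ⟨g, rfl⟩ := hf x
    refine RingHom.congr_fun (MvPolynomial.ringHom_ext
      (f := ((residue (V t)).comp lt).comp f.toRingHom) (g := (χ t).comp f.toRingHom) (fun a => ?_) fun a => ?_) g
    · show residue (V t) (lt (f (MvPolynomial.C a))) = χ t (f (MvPolynomial.C a))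
      rw [hlt, show f (MvPolynomial.C a) = algebraMap _ B a from f.commutes a]
      show residue (V t) (E (MvPolynomial.C a) t) = _
      rw [show E (MvPolynomial.C a) = Pi.ringHom βA a from MvPolynomial.eval₂Hom_C _ _ a]
      exact (RingHom.congr_fun (hsq t) a).symm
    · show residue (V t) (lt (f (MvPolynomial.X a))) = _
      rw [hlt]
      show residue (V t) (E (MvPolynomial.X a) t) = _
      rw [show E (MvPolynomial.X a) = u a from MvPolynomial.eval₂Hom_X' _ _ a]
      exact htX a

/-- Universal openness of a base change of affine schemes, in terms of rings. -/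
theorem universallyOpen_snd_iff {X S T : Scheme.{u}} [IsAffine X] [IsAffine S] [IsAffine T]
    (f : X ⟶ S) (g : T ⟶ S) [Algebra Γ(S, ⊤) Γ(X, ⊤)] [Algebra Γ(S, ⊤) Γ(T, ⊤)]
    (hf : algebraMap Γ(S, ⊤) Γ(X, ⊤) = f.appTop.hom) (hg : algebraMap Γ(S, ⊤) Γ(T, ⊤) = g.appTop.hom) :
    UniversallyOpen (pullback.snd f g) ↔
      UniversallyOpen (Spec.map (CommRingCat.ofHom (algebraMap Γ(T, ⊤) (Γ(T, ⊤) ⊗[Γ(S, ⊤)] Γ(X, ⊤))))) := by
  have e1 : Spec.map (CommRingCat.ofHom (algebraMap Γ(S, ⊤) Γ(X, ⊤))) = X.isoSpec.inv ≫ f ≫ S.isoSpec.hom := by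
    rw [Iso.eq_inv_comp, hf]
    exact Scheme.isoSpec_hom_naturality f
  have e2 : Spec.map (CommRingCat.ofHom (algebraMap Γ(S, ⊤) Γ(T, ⊤))) = T.isoSpec.inv ≫ g ≫ S.isoSpec.hom := by
    rw [Iso.eq_inv_comp, hg]
    exact Scheme.isoSpec_hom_naturality g
  rw [← pullbackSpecIso_inv_fst', MorphismProperty.cancel_left_of_respectsIso (P := @UniversallyOpen)]
  have sq : IsPullback (pullback.snd (Spec.map (CommRingCat.ofHom (algebraMap Γ(S, ⊤) Γ(T, ⊤))))
        (Spec.map (CommRingCat.ofHom (algebraMap Γ(S, ⊤) Γ(X, ⊤)))) ≫ X.isoSpec.inv)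
      (pullback.fst (Spec.map (CommRingCat.ofHom (algebraMap Γ(S, ⊤) Γ(T, ⊤))))
        (Spec.map (CommRingCat.ofHom (algebraMap Γ(S, ⊤) Γ(X, ⊤)))) ≫ T.isoSpec.inv) f g :=
    IsPullback.of_iso (IsPullback.of_hasPullback _ _).flip (Iso.refl _) X.isoSpec.symm T.isoSpec.symm S.isoSpec.symm
      (by simp) (by simp) (by simp [e1]) (by simp [e2])
  rw [← sq.isoPullback_hom_snd |>.trans rfl |> fun h => MorphismProperty.cancel_right_of_respectsIso (P := @UniversallyOpen) _ T.isoSpec.inv,
    ← sq.isoPullback_hom_snd, MorphismProperty.cancel_left_of_respectsIso (P := @UniversallyOpen)]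

/-- Universal openness descends along limits for morphisms of finite presentation. -/
theorem core : Desc.Core @UniversallyOpen (@LocallyOfFinitePresentation : MorphismProperty Scheme.{u}) := by
  intro I _ _ D c hc hD i hi X₀ f₀ hcs hqs hQ h
  classical
  haveI : ∀ {i j : I} (f : i ⟶ j), IsAffineHom (D.map f) := fun {i j} f => hD i j f
  haveI := hcs; haveI := hi
  haveI : LocallyOfFinitePresentation f₀ := hQ
  haveI : ∀ k : Over i, IsAffine ((Over.forget i ⋙ D).obj k) := isAffine_over D i
  haveI := isAffineHom_π_app _ _ hc i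
  haveI : IsAffine c.pt := isAffine_of_isAffineHom (c.π.app i)
  let 𝒰 := X₀.affineCover.finiteSubcover
  haveI : ∀ k, IsAffine (𝒰.X k) := fun k => by dsimp [𝒰]; infer_instance
  let A : Type u := Γ(D.obj i, ⊤)
  have hstage : ∀ k, ∃ (j : Over i), UniversallyOpen (pullback.snd (𝒰.f k ≫ f₀) (D.map j.hom)) := by
    intro k
    let fk := 𝒰.f k ≫ f₀
    letI aB : Algebra Γ(D.obj i, ⊤) Γ(𝒰.X k, ⊤) := fk.appTop.hom.toAlgebra
    letI aC : Algebra Γ(D.obj i, ⊤) Γ(c.pt, ⊤) := (c.π.app i).appTop.hom.toAlgebra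
    haveI : Algebra.FinitePresentation Γ(D.obj i, ⊤) Γ(𝒰.X k, ⊤) :=
      HasRingHomProperty.appTop (P := @LocallyOfFinitePresentation) fk inferInstance
    have hk : UniversallyOpen (pullback.snd fk (c.π.app i)) := by
      have sq := (IsPullback.of_hasPullback (𝒰.f k) (pullback.fst f₀ (c.π.app i))).paste_vert
        (IsPullback.of_hasPullback f₀ (c.π.app i))
      rw [← sq.isoPullback_inv_snd]
      haveI : UniversallyOpen (pullback.snd f₀ (c.π.app i)) := h
      infer_instance
    replace hk := (universallyOpen_snd_iff (T := c.pt) fk (c.π.app i) rfl rfl).1 hk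
    have hC := hasLifts_of_universallyOpen hk
    letI : Algebra Γ((Over.forget i ⋙ D).obj (Over.mk (𝟙 i)), ⊤) Γ(𝒰.X k, ⊤) := aB
    haveI : Algebra.FinitePresentation Γ((Over.forget i ⋙ D).obj (Over.mk (𝟙 i)), ⊤) Γ(𝒰.X k, ⊤) :=
      (inferInstance : Algebra.FinitePresentation Γ(D.obj i, ⊤) Γ(𝒰.X k, ⊤))
    obtain ⟨j, φ, hj⟩ := exists_lifts_stage (I := Over i) (D := Over.forget i ⋙ D)
      ((Functor.Initial.isLimitWhiskerEquiv (Over.forget i) c).symm hc) (i := Over.mk (𝟙 i)) Γ(𝒰.X k, ⊤)
      fun K _ _ V b χ hχ => by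
        let β : Γ(c.pt, ⊤) →+* V := pre b
        have hχ' : χ.comp (algebraMap Γ(D.obj i, ⊤) Γ(𝒰.X k, ⊤)) = (residue V).comp (β.comp (c.π.app i).appTop.hom) := by
          rw [← pre_comp]; exact hχ
        letI : Algebra Γ(D.obj i, ⊤) (ResidueField V) :=
          ((residue V).comp (β.comp (c.π.app i).appTop.hom)).toAlgebra
        let χC := Algebra.TensorProduct.lift
          (⟨(residue V).comp β, fun _ => rfl⟩ : Γ(c.pt, ⊤) →ₐ[Γ(D.obj i, ⊤)] ResidueField V)
          (⟨χ, RingHom.congr_fun hχ'⟩ : Γ(𝒰.X k, ⊤) →ₐ[Γ(D.obj i, ⊤)] ResidueField V) fun _ _ => .all _ _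
        obtain ⟨l, hl, hl'⟩ := hC K V β χC.toRingHom (RingHom.ext fun a => by
          show χC (a ⊗ₜ 1) = residue V (β a)
          rw [Algebra.TensorProduct.lift_tmul, map_one, mul_one]
          rfl)
        let ι₂ : Γ(𝒰.X k, ⊤) →ₐ[Γ(D.obj i, ⊤)] Γ(c.pt, ⊤) ⊗[Γ(D.obj i, ⊤)] Γ(𝒰.X k, ⊤) :=
          Algebra.TensorProduct.includeRight
        refine ⟨l.comp ι₂.toRingHom, RingHom.ext fun a => ?_, RingHom.ext fun x => ?_⟩
        · show l (ι₂ (algebraMap Γ(D.obj i, ⊤) Γ(𝒰.X k, ⊤) a)) = pre (b ≫ c.π.app i) a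
          rw [ι₂.commutes, IsScalarTower.algebraMap_apply Γ(D.obj i, ⊤) Γ(c.pt, ⊤) (Γ(c.pt, ⊤) ⊗[Γ(D.obj i, ⊤)] Γ(𝒰.X k, ⊤)),
            pre_comp]
          exact RingHom.congr_fun hl _
        · show residue V (l (1 ⊗ₜ x)) = χ x
          refine (RingHom.congr_fun hl' _).trans ?_
          show χC (1 ⊗ₜ x) = χ x
          rw [Algebra.TensorProduct.lift_tmul, map_one, one_mul]
          rfl
    refine ⟨j, ?_⟩
    have hw : φ.left = j.hom := by simpa using Over.w φ
    haveI : IsAffine (D.obj j.left) := isAffine_of_isAffineHom (D.map j.hom)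
    letI : Algebra Γ(D.obj i, ⊤) Γ(D.obj j.left, ⊤) := (D.map j.hom).appTop.hom.toAlgebra
    rw [universallyOpen_snd_iff fk (D.map j.hom) rfl rfl]
    refine universallyOpen_of_hasLifts (hasLifts_tensor _ fun K _ _ V β χ e => ?_)
    have := hj K V β χ
    simp only [Functor.comp_map, Over.forget_map, hw] at this
    exact this e
  choose j hj using hstage
  obtain ⟨j₀, ψ, χ, hχ⟩ := IsCofiltered.wideCospan fun k => (j k).hom
  refine ⟨j₀, ψ, ?_⟩
  rw [IsZariskiLocalAtSource.iff_of_openCover (P := @UniversallyOpen) (𝒰.pullback₁ (pullback.fst f₀ (D.map ψ)))]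
  intro k
  refine Desc.of_factor @UniversallyOpen (hj k) (a := D.map (χ k)) (by rw [← D.map_comp, hχ k])
    ((IsPullback.of_hasPullback (pullback.fst f₀ (D.map ψ)) (𝒰.f k)).flip.paste_vert
      (IsPullback.of_hasPullback f₀ (D.map ψ)))

end Groth.Agent.UOpenFP
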