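import Groth.Agent.MorLib.OpenGeneralizing
import Groth.Agent.SepClosedNormal.Basic
import Groth.Agent.FibDense.Core
import Mathlib.RingTheory.Spectrum.Prime.Chevalley
import Mathlib.RingTheory.Flat.TorsionFree

/-!
# A point-lifting criterion for universal openness over valuation rings
-/

universe u

set_option autoImplicit false
set_option linter.style.haveILetI false
set_option backward.isDefEq.respectTransparency false
set_option backward.isDefEq.respectTransparency.types false

open CategoryTheory CategoryTheory.Limits AlgebraicGeometry IsLocalRing TensorProduct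

namespace Groth.Agent.UOpenFP

/-- Points of closed fibres over valuation rings of algebraically closed fields lift to integral points. -/
def HasLifts {A B : Type u} [CommRing A] [CommRing B] (φ : A →+* B) : Prop :=
  ∀ (K : Type u) [Field K] [IsAlgClosed K] (V : ValuationSubring K) (β : A →+* V) (χ : B →+* ResidueField V),
    χ.comp φ = (residue V).comp β → ∃ l : B →+* V, l.comp φ = β ∧ (residue V).comp l = χ

variable {A B : Type u} [CommRing A] [CommRing B] [Algebra A B]

/-- Lifting for a base change, in terms of the original algebra. -/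
theorem hasLifts_tensor (A' : Type u) [CommRing A'] [Algebra A A']
    (h : ∀ (K : Type u) [Field K] [IsAlgClosed K] (V : ValuationSubring K) (β : A' →+* V) (χ : B →+* ResidueField V),
      χ.comp (algebraMap A B) = (residue V).comp (β.comp (algebraMap A A')) →
      ∃ l : B →+* V, l.comp (algebraMap A B) = β.comp (algebraMap A A') ∧ (residue V).comp l = χ) :
    HasLifts (algebraMap A' (A' ⊗[A] B)) := by
  intro K _ _ V β χ hχ
  let ι₂ : B →+* A' ⊗[A] B := (Algebra.TensorProduct.includeRight : B →ₐ[A] A' ⊗[A] B).toRingHom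
  obtain ⟨l, hl, hl'⟩ := h K V β (χ.comp ι₂) (by
    rw [← RingHom.comp_assoc, ← hχ, RingHom.comp_assoc, RingHom.comp_assoc]
    congr 1
    exact RingHom.ext fun a => ((Algebra.TensorProduct.includeRight : B →ₐ[A] A' ⊗[A] B).commutes a).trans
      (IsScalarTower.algebraMap_apply A A' (A' ⊗[A] B) a))
  letI : Algebra A V := (β.comp (algebraMap A A')).toAlgebra
  let β' : A' →ₐ[A] V := ⟨β, fun _ => rfl⟩
  let l' : B →ₐ[A] V := ⟨l, RingHom.congr_fun hl⟩
  let m := Algebra.TensorProduct.lift β' l' fun _ _ => .all _ _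
  refine ⟨m.toRingHom, RingHom.ext fun a => ?_, RingHom.ext fun x => ?_⟩
  · show m (a ⊗ₜ 1) = β a
    rw [Algebra.TensorProduct.lift_tmul, map_one, mul_one]
    rfl
  · induction x using TensorProduct.induction_on with
    | zero => rw [map_zero, map_zero]
    | add x y hx hy => rw [map_add, map_add, hx, hy]
    | tmul a b =>
      show residue V (m (a ⊗ₜ b)) = χ (a ⊗ₜ b)
      rw [Algebra.TensorProduct.lift_tmul, map_mul, show a ⊗ₜ[A] b = (a ⊗ₜ 1) * (1 ⊗ₜ b) by
        rw [Algebra.TensorProduct.tmul_mul_tmul, mul_one, one_mul], map_mul]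
      exact congr_arg₂ _ (RingHom.congr_fun hχ a).symm (RingHom.congr_fun hl' b)

/-- Lifting is stable under base change. -/
theorem HasLifts.baseChange (h : HasLifts (algebraMap A B)) (A' : Type u) [CommRing A'] [Algebra A A'] :
    HasLifts (algebraMap A' (A' ⊗[A] B)) :=
  hasLifts_tensor A' fun K _ _ V β χ e => h K V (β.comp (algebraMap A A')) χ e

/-- Universally open morphisms of finite type have lifts. -/
theorem hasLifts_of_universallyOpen [Algebra.FiniteType A B]
    (h : UniversallyOpen (Spec.map (CommRingCat.ofHom (algebraMap A B)))) : HasLifts (algebraMap A B) := by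
  intro K _ _ V β χ hχ
  by_cases hm : maximalIdeal V = ⊥
  · let e : V ≃+* ResidueField V := RingEquiv.ofBijective (residue V)
      ⟨(RingHom.injective_iff_ker_eq_bot _).2 (by rw [ker_residue, hm]), residue_surjective⟩
    refine ⟨e.symm.toRingHom.comp χ, ?_, RingHom.ext fun b => e.apply_symm_apply (χ b)⟩
    rw [RingHom.comp_assoc, hχ]
    exact RingHom.ext fun a => e.symm_apply_apply (β a)
  have hk : IsAlgClosed (ResidueField V) := SepClosedNormal.isAlgClosed_residueField V K hm
  letI : Algebra A V := β.toAlgebra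
  let BV := V ⊗[A] B
  -- openness over the valuation ring
  have hopen : IsOpenMap (PrimeSpectrum.comap (algebraMap V BV)) := by
    have h1 : UniversallyOpen (Spec.map (CommRingCat.ofHom (algebraMap V BV))) := by
      rw [← pullbackSpecIso_inv_fst']
      infer_instance
    exact (Spec.map (CommRingCat.ofHom (algebraMap V BV))).isOpenMap
  let k := ResidueField V
  let χ₁ : V →ₐ[A] k := ⟨residue V, fun _ => rfl⟩
  let χ₂ : B →ₐ[A] k := ⟨χ, RingHom.congr_fun hχ⟩
  let χV : BV →ₐ[A] k := Algebra.TensorProduct.lift χ₁ χ₂ fun _ _ => .all _ _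
  have hχv : ∀ v : V, χV (algebraMap V BV v) = residue V v := fun v => by
    show χV (v ⊗ₜ 1) = _
    rw [Algebra.TensorProduct.lift_tmul, map_one, mul_one]
    rfl
  let Q : Ideal BV := RingHom.ker χV.toRingHom
  haveI hQ : Q.IsMaximal := RingHom.ker_isMaximal_of_surjective χV.toRingHom fun y => by
    obtain ⟨v, rfl⟩ := residue_surjective y
    exact ⟨algebraMap V BV v, hχv v⟩
  have hQm : Q.comap (algebraMap V BV) = maximalIdeal V := by
    ext v
    show χV (algebraMap V BV v) = 0 ↔ _
    rw [hχv, residue_eq_zero_iff]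
  obtain ⟨p, hpQ, hp⟩ := (MorLib.generalizingMap_comap_of_isOpenMap (algebraMap V BV) hopen)
    (show (⟨⊥, Ideal.isPrime_bot⟩ : PrimeSpectrum V) ⤳ PrimeSpectrum.comap (algebraMap V BV) ⟨Q, hQ.isPrime⟩ from
      (PrimeSpectrum.le_iff_specializes (⟨⊥, Ideal.isPrime_bot⟩ : PrimeSpectrum V) _).1
        (fun x hx => by rw [Submodule.mem_bot] at hx; rw [hx]; exact Ideal.zero_mem _))
  have hpQ' : p.asIdeal ≤ Q := (PrimeSpectrum.le_iff_specializes p _).2 hpQ
  let S := BV ⧸ p.asIdeal
  let π : BV →ₐ[V] S := Ideal.Quotient.mkₐ V p.asIdeal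
  have hinj : Function.Injective (algebraMap V S) := by
    rw [injective_iff_map_eq_zero]
    intro v hv
    have : v ∈ (PrimeSpectrum.comap (algebraMap V BV) p).asIdeal :=
      (Ideal.Quotient.eq_zero_iff_mem (I := p.asIdeal) (a := algebraMap V BV v)).1 hv
    rw [hp] at this
    exact this
  let Qs : Ideal S := Q.map (Ideal.Quotient.mk p.asIdeal)
  have hQs : Qs.comap (Ideal.Quotient.mk p.asIdeal) = Q := by
    rw [Ideal.comap_map_of_surjective _ Ideal.Quotient.mk_surjective, ← RingHom.ker_eq_comap_bot, Ideal.mk_ker,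
      sup_eq_left.2 hpQ']
  haveI : Qs.IsMaximal := (Ideal.map_eq_top_or_isMaximal_of_surjective _ Ideal.Quotient.mk_surjective hQ).resolve_left
    fun h => hQ.ne_top (by rw [← hQs, show Qs = ⊤ from h, Ideal.comap_top])
  obtain ⟨P, hP, hPV, hPQ, -, hPmax⟩ := FibDense.exists_prime_le_of_valuationRing V S hinj Qs (by
    rw [show algebraMap V S = (Ideal.Quotient.mk p.asIdeal).comp (algebraMap V BV) from rfl, ← Ideal.comap_comap,
      hQs, hQm]) hm 1 one_ne_zero
  let T := S ⧸ P
  let ρ : BV →ₐ[V] T := (Ideal.Quotient.mkₐ V P).comp π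
  have hTinj : Function.Injective (algebraMap V T) := by
    rw [injective_iff_map_eq_zero]
    intro v hv
    have : v ∈ P.comap (algebraMap V S) := (Ideal.Quotient.eq_zero_iff_mem (I := P) (a := algebraMap V S v)).1 hv
    rwa [hPV] at this
  haveI : Module.Flat V T := by
    refine Module.Flat.flat_iff_torsion_eq_bot_of_isBezout.2 ?_
    rw [eq_bot_iff]
    rintro a ⟨⟨v, hv⟩, hva⟩
    have hva' : algebraMap V T v * a = 0 := by rw [← Algebra.smul_def]; exact hva
    exact (mul_eq_zero.1 hva').resolve_left fun h0 =>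
      nonZeroDivisors.ne_zero hv (hTinj (h0.trans (map_zero _).symm))
  -- a rational point of the generic fibre
  haveI : Algebra.FiniteType V T := Algebra.FiniteType.of_surjective ρ
    (Ideal.Quotient.mk_surjective.comp Ideal.Quotient.mk_surjective)
  haveI : Nontrivial (K ⊗[V] T) :=
    (Algebra.TensorProduct.includeRight_injective (A := K) (B := T) (IsFractionRing.injective V K)).nontrivial
  obtain ⟨M, hM⟩ := Ideal.exists_maximal (K ⊗[V] T)
  letI := Ideal.Quotient.field M
  haveI : Module.Finite K ((K ⊗[V] T) ⧸ M) := finite_of_finite_type_of_isJacobsonRing K _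
  let eK : K ≃ₐ[K] (K ⊗[V] T) ⧸ M := AlgEquiv.ofBijective (Algebra.ofId K _)
    (IsAlgClosed.algebraMap_bijective_of_isIntegral (k := K))
  let μ : T →ₐ[V] K := ((eK.symm.toAlgHom.restrictScalars V).comp
    ((Ideal.Quotient.mkₐ V M).comp Algebra.TensorProduct.includeRight))
  have hμ : Function.Injective μ := by
    rw [injective_iff_map_eq_zero]
    intro t ht
    obtain ⟨s, rfl⟩ := Ideal.Quotient.mk_surjective t
    let P' : Ideal S := RingHom.ker (μ.comp (Ideal.Quotient.mkₐ V P)).toRingHom
    have h1 : P' = P := hPmax P' (RingHom.ker_isPrime _) (eq_bot_iff.2 fun v hv => by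
      have hv' : (μ.comp (Ideal.Quotient.mkₐ V P)) (algebraMap V S v) = 0 := hv
      rw [AlgHom.commutes] at hv'
      exact IsFractionRing.injective V K (hv'.trans (map_zero _).symm)) fun x hx => by
        show μ (Ideal.Quotient.mk P x) = 0
        rw [Ideal.Quotient.eq_zero_iff_mem.2 hx, map_zero]
    exact Ideal.Quotient.eq_zero_iff_mem.2 (h1 ▸ (show s ∈ P' from ht))
  let QT : Ideal T := Qs.map (Ideal.Quotient.mk P)
  have hQT : QT.comap (Ideal.Quotient.mk P) = Qs := by
    rw [Ideal.comap_map_of_surjective _ Ideal.Quotient.mk_surjective, ← RingHom.ker_eq_comap_bot, Ideal.mk_ker,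
      sup_eq_left.2 hPQ]
  have hQρ : ∀ x, ρ x ∈ QT ↔ x ∈ Q := fun x => by rw [← hQs, ← hQT]; rfl
  have hQTV : ∀ v : V, algebraMap V T v ∈ QT ↔ v ∈ maximalIdeal V := fun v => by
    rw [← hQm, ← ρ.commutes, hQρ]; rfl
  have hQT1 : (1 : T) ∉ QT := fun h => hQ.ne_top ((Ideal.eq_top_iff_one _).2 ((hQρ 1).1 (by rwa [map_one])))
  have hμV : ∀ t, μ t ∈ V := fun t => by
    by_contra ht
    have hz : μ t ≠ 0 := fun h0 => ht (h0 ▸ V.zero_mem)
    have hzi : (μ t)⁻¹ ∈ V := (V.mem_or_inv_mem _).resolve_left ht
    have hvm : (⟨_, hzi⟩ : V) ∈ maximalIdeal V := fun hu => by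
      obtain ⟨w, hw⟩ := hu.exists_right_inv
      exact ht (by
        have := congrArg Subtype.val hw
        rw [show μ t = (w : K) from (inv_mul_eq_one₀ hz).1 this]
        exact w.2)
    have h1 : algebraMap V T ⟨_, hzi⟩ * t = 1 := hμ (by
      rw [map_mul, AlgHom.commutes, map_one]
      exact inv_mul_cancel₀ hz)
    exact hQT1 (h1 ▸ QT.mul_mem_right t ((hQTV _).2 hvm))
  let μV : T →+* V := μ.toRingHom.codRestrict V.toSubring hμV
  have hμm : ∀ t ∈ QT, residue V (μV t) = 0 := fun t ht => by
    rw [residue_eq_zero_iff]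
    intro hu
    obtain ⟨w, hw⟩ := hu.exists_right_inv
    have h1 : t * algebraMap V T w = 1 := hμ (by
      rw [map_mul, AlgHom.commutes, map_one]
      exact congrArg Subtype.val hw)
    exact hQT1 (h1 ▸ QT.mul_mem_right _ ht)
  have hμv : ∀ v, μV (algebraMap V T v) = v := fun v => Subtype.ext (μ.commutes v)
  let ι₂ : B →ₐ[A] BV := Algebra.TensorProduct.includeRight
  refine ⟨μV.comp (ρ.toRingHom.comp ι₂.toRingHom), RingHom.ext fun a => ?_, RingHom.ext fun b => ?_⟩
  · show μV (ρ (ι₂ (algebraMap A B a))) = β a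
    rw [ι₂.commutes, IsScalarTower.algebraMap_apply A V BV, ρ.commutes, hμv]
    rfl
  · show residue V (μV (ρ (ι₂ b))) = χ b
    obtain ⟨v, hv⟩ := residue_surjective (χ b)
    have hx : ι₂ b - algebraMap V BV v ∈ Q := by
      show χV (1 ⊗ₜ b - algebraMap V BV v) = 0
      rw [map_sub, hχv, Algebra.TensorProduct.lift_tmul, map_one, one_mul, hv, sub_eq_zero]
      rfl
    have := hμm _ ((hQρ _).2 hx)
    rw [map_sub, map_sub, ρ.commutes, hμv, map_sub, sub_eq_zero] at this
    rw [this, hv]

/-- Finitely presented maps with lifts induce open maps of spectra. -/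
theorem isOpenMap_comap_of_hasLifts [Algebra.FinitePresentation A B] (h : HasLifts (algebraMap A B)) :
    IsOpenMap (PrimeSpectrum.comap (algebraMap A B)) := by
  refine PrimeSpectrum.isTopologicalBasis_basic_opens.isOpenMap_iff.2 ?_
  rintro _ ⟨f, rfl⟩
  refine PrimeSpectrum.isOpen_of_stableUnderGeneralization_of_isConstructible ?_
    (PrimeSpectrum.isConstructible_comap_image (RingHom.finitePresentation_algebraMap.2 ‹_›)
      PrimeSpectrum.isConstructible_basicOpen)
  rintro q q' hq'q ⟨P, hPf, rfl⟩
  have hle : q'.asIdeal ≤ (PrimeSpectrum.comap (algebraMap A B) P).asIdeal :=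
    (PrimeSpectrum.le_iff_specializes q' _).2 hq'q
  let q := PrimeSpectrum.comap (algebraMap A B) P
  -- a valuation ring with algebraically closed fraction field centred at the two points
  let K := AlgebraicClosure (FractionRing (A ⧸ q'.asIdeal))
  let g₀ : A →+* K := (algebraMap (FractionRing (A ⧸ q'.asIdeal)) K).comp
    ((algebraMap (A ⧸ q'.asIdeal) (FractionRing (A ⧸ q'.asIdeal))).comp (Ideal.Quotient.mk q'.asIdeal))
  have hg₀ : ∀ a, g₀ a = 0 ↔ a ∈ q'.asIdeal := fun a => by
    rw [← Ideal.Quotient.eq_zero_iff_mem]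
    show algebraMap (FractionRing (A ⧸ q'.asIdeal)) K
      (algebraMap (A ⧸ q'.asIdeal) (FractionRing (A ⧸ q'.asIdeal)) (Ideal.Quotient.mk q'.asIdeal a)) = 0 ↔ _
    rw [map_eq_zero, map_eq_zero_iff _ (IsFractionRing.injective (A ⧸ q'.asIdeal) (FractionRing (A ⧸ q'.asIdeal)))]
  let L := Localization.AtPrime q.asIdeal
  let gL : L →+* K := IsLocalization.lift (M := q.asIdeal.primeCompl) (S := L) (g := g₀)
    fun s => IsUnit.mk0 _ fun h0 => s.2 (hle ((hg₀ _).1 h0))
  obtain ⟨V, hV1, hV2⟩ := (LocalSubring.range gL).exists_le_valuationSubring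
  have hgV : ∀ a, g₀ a ∈ V := fun a => hV1 ⟨algebraMap A L a, IsLocalization.lift_eq _ _⟩
  let β : A →+* V := g₀.codRestrict V.toSubring hgV
  have hβm : ∀ a, residue V (β a) = 0 ↔ a ∈ q.asIdeal := fun a => by
    rw [residue_eq_zero_iff, mem_maximalIdeal, mem_nonunits_iff]
    refine ⟨fun hn => by_contra fun ha => hn ?_, fun ha hu => ?_⟩
    · have hua := (IsLocalization.map_units L (⟨a, ha⟩ : q.asIdeal.primeCompl)).map gL.rangeRestrict
      have := hua.map (Subring.inclusion hV1)
      convert this using 1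
      exact Subtype.ext (IsLocalization.lift_eq _ _).symm
    · obtain ⟨⟨_, y, rfl⟩, hy⟩ := (hV2.map_nonunit (⟨g₀ a, algebraMap A L a, IsLocalization.lift_eq _ _⟩ :
        (LocalSubring.range gL).toSubring) hu).exists_right_inv
      have h1 : gL (algebraMap A L a * y) = 1 := by
        rw [map_mul, IsLocalization.lift_eq]
        exact congrArg Subtype.val hy
      have h2 : IsUnit (1 - algebraMap A L a * y) := by
        refine isUnit_one_sub_self_of_mem_nonunits _ fun hu' => ?_
        exact ((IsLocalization.AtPrime.isUnit_to_map_iff L q.asIdeal a).1 (isUnit_of_mul_isUnit_left hu')) ha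
      have := h2.map gL
      rw [map_sub, map_one, h1, sub_self] at this
      exact not_isUnit_zero this
  have hk : IsAlgClosed (ResidueField V) := by
    by_cases hm : maximalIdeal V = ⊥
    · have hb : Function.Bijective (residue V) :=
        ⟨(RingHom.injective_iff_ker_eq_bot _).2 (by rw [ker_residue, hm]), residue_surjective⟩
      have htop : ∀ x : K, x ∈ V := fun x => by
        by_contra hx
        have hxi : x⁻¹ ∈ V := (V.mem_or_inv_mem _).resolve_left hx
        have : (⟨_, hxi⟩ : V) ∈ maximalIdeal V := fun hu => by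
          obtain ⟨w, hw⟩ := hu.exists_right_inv
          have hw' : x⁻¹ * (w : K) = 1 := congrArg Subtype.val hw
          exact hx (by rw [show x = (w : K) from (inv_mul_eq_one₀ fun h0 => hx (by rw [h0]; exact V.zero_mem)).1 hw']; exact w.2)
        rw [hm, Ideal.mem_bot, Subtype.ext_iff] at this
        exact hx ((inv_eq_zero.1 this) ▸ V.zero_mem)
      let eV : K ≃+* ResidueField V :=
        (RingEquiv.ofBijective V.subtype ⟨Subtype.val_injective, fun x => ⟨⟨x, htop x⟩, rfl⟩⟩).symm.trans
          (RingEquiv.ofBijective (residue V) hb)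
      exact IsAlgClosed.of_ringEquiv K _ eV
    · exact SepClosedNormal.isAlgClosed_residueField V K hm
  -- a geometric point of the fibre outside the zero locus
  let Bf := Localization.Away f
  have : Nontrivial (q.asIdeal.Fiber Bf) := by
    obtain ⟨Pf, hPf'⟩ : P ∈ Set.range (PrimeSpectrum.comap (algebraMap B Bf)) := by
      rw [PrimeSpectrum.localization_away_comap_range Bf f]; exact hPf
    have hmem : Pf ∈ PrimeSpectrum.comap (algebraMap A Bf) ⁻¹' {q} := by
      show PrimeSpectrum.comap (algebraMap A Bf) Pf = q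
      rw [IsScalarTower.algebraMap_eq A B Bf, PrimeSpectrum.comap_comp_apply, hPf']
    exact PrimeSpectrum.nonempty_iff_nontrivial.1 ⟨PrimeSpectrum.preimageEquivFiber A Bf q ⟨Pf, hmem⟩⟩
  obtain ⟨M, hM⟩ := Ideal.exists_maximal (q.asIdeal.Fiber Bf)
  letI := Ideal.Quotient.field M
  haveI : Algebra.FiniteType A Bf := Algebra.FiniteType.trans inferInstance (inferInstance : Algebra.FiniteType B Bf)
  haveI : Module.Finite q.asIdeal.ResidueField ((q.asIdeal.Fiber Bf) ⧸ M) :=
    finite_of_finite_type_of_isJacobsonRing q.asIdeal.ResidueField _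
  let κk : q.asIdeal.ResidueField →+* ResidueField V :=
    Ideal.ResidueField.lift q.asIdeal ((residue V).comp β) (fun a ha => (hβm a).2 ha)
      fun a ha => IsUnit.mk0 _ fun h0 => ha ((hβm a).1 h0)
  letI : Algebra q.asIdeal.ResidueField (ResidueField V) := κk.toAlgebra
  let ε : (q.asIdeal.Fiber Bf) ⧸ M →ₐ[q.asIdeal.ResidueField] ResidueField V := IsAlgClosed.lift
  let χ : B →+* ResidueField V := ε.toRingHom.comp ((Ideal.Quotient.mk M).comp
    ((Algebra.TensorProduct.includeRight : Bf →ₐ[A] q.asIdeal.Fiber Bf).toRingHom.comp (algebraMap B Bf)))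
  have hχf : χ f ≠ 0 :=
    (((IsLocalization.Away.algebraMap_isUnit f).map
      (Algebra.TensorProduct.includeRight : Bf →ₐ[A] q.asIdeal.Fiber Bf).toRingHom).map (Ideal.Quotient.mk M)).map ε.toRingHom
      |>.ne_zero
  obtain ⟨l, hl, hl'⟩ := h K V β χ (RingHom.ext fun a => by
    show ε (Ideal.Quotient.mk M ((Algebra.TensorProduct.includeRight : Bf →ₐ[A] q.asIdeal.Fiber Bf)
      (algebraMap B Bf (algebraMap A B a)))) = residue V (β a)
    rw [← IsScalarTower.algebraMap_apply, AlgHom.commutes,
      IsScalarTower.algebraMap_apply A q.asIdeal.ResidueField (q.asIdeal.Fiber Bf)]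
    exact (ε.commutes _).trans (Ideal.ResidueField.lift_algebraMap _ _ _ _ a))
  let lK : B →+* K := V.subtype.comp l
  refine ⟨⟨RingHom.ker lK, RingHom.ker_isPrime _⟩, fun hf => hχf ?_, PrimeSpectrum.ext (Ideal.ext fun a => ?_)⟩
  · have : l f = 0 := Subtype.ext hf
    rw [← hl', RingHom.comp_apply, this, map_zero]
  · show (l (algebraMap A B a) : K) = 0 ↔ a ∈ q'.asIdeal
    rw [show l (algebraMap A B a) = β a from RingHom.congr_fun hl a]
    exact hg₀ a

/-- Finitely presented maps with lifts are universally open. -/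
theorem universallyOpen_of_hasLifts [Algebra.FinitePresentation A B] (h : HasLifts (algebraMap A B)) :
    UniversallyOpen (Spec.map (CommRingCat.ofHom (algebraMap A B))) := by
  rw [UniversallyOpen.eq]
  refine MorphismProperty.universally_mk' _ _ fun {Y'} g _ => ?_
  rw [IsZariskiLocalAtTarget.iff_of_openCover (P := topologically @IsOpenMap) Y'.affineCover]
  intro i
  have h1 := (IsPullback.of_hasPullback (pullback.fst g (Spec.map (CommRingCat.ofHom (algebraMap A B))))
    (Y'.affineCover.f i)).paste_horiz (IsPullback.of_hasPullback g _).flip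
  let R := Γ(Y'.affineCover.X i, ⊤)
  let t : Spec R ⟶ Spec (CommRingCat.of A) := (Y'.affineCover.X i).isoSpec.inv ≫ Y'.affineCover.f i ≫ g
  letI : Algebra A R := (Spec.preimage t).hom.toAlgebra
  have ht : Spec.map (CommRingCat.ofHom (algebraMap A R)) = t := Spec.map_preimage t
  have h2 : IsPullback (pullback.snd (Spec.map (CommRingCat.ofHom (algebraMap A R)))
      (Spec.map (CommRingCat.ofHom (algebraMap A B))))
      (pullback.fst (Spec.map (CommRingCat.ofHom (algebraMap A R)))
        (Spec.map (CommRingCat.ofHom (algebraMap A B))) ≫ (Y'.affineCover.X i).isoSpec.inv)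
      (Spec.map (CommRingCat.ofHom (algebraMap A B))) (Y'.affineCover.f i ≫ g) :=
    IsPullback.of_iso (IsPullback.of_hasPullback _ _).flip (Iso.refl _) (Iso.refl _) (Y'.affineCover.X i).isoSpec.symm
      (Iso.refl _) (by simp) (by simp) (by simp) (by simp [ht, t])
  have hf : topologically @IsOpenMap
      (Spec.map (CommRingCat.ofHom (algebraMap R ((R : Type u) ⊗[A] B)))) :=
    isOpenMap_comap_of_hasLifts (h.baseChange R)
  rw [← pullbackSpecIso_inv_fst', MorphismProperty.cancel_left_of_respectsIso (P := topologically @IsOpenMap)] at hf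
  have hf' : topologically @IsOpenMap (pullback.fst (Spec.map (CommRingCat.ofHom (algebraMap A R)))
        (Spec.map (CommRingCat.ofHom (algebraMap A B))) ≫ (Y'.affineCover.X i).isoSpec.inv) :=
    (MorphismProperty.cancel_right_of_respectsIso (P := topologically @IsOpenMap) _ _).2 hf
  show topologically @IsOpenMap (pullback.snd _ (Y'.affineCover.f i))
  rw [← h1.isoIsPullback_hom_snd _ _ h2]
  exact (MorphismProperty.cancel_left_of_respectsIso (P := topologically @IsOpenMap) _ _).2 hf'

end Groth.Agent.UOpenFP
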